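import Groth.Agent.REqP1.Chart
import Groth.Agent.RatExt.Points
import Groth.Agent.GrpField.SchDomFlat
import Groth.Agent.HQProj.Basic
import Groth.Prelude.Def_W4c5nonratstablectREq
import Mathlib.AlgebraicGeometry.SpreadingOut
import Groth.Agent.ProjMor.ProjSpaceBase

/-!
# R-links spread out over a dense open, and homotopy invariant functors
-/

set_option autoImplicit false
set_option backward.isDefEq.respectTransparency false
set_option linter.style.haveILetI false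

universe u v

open CategoryTheory CategoryTheory.Limits AlgebraicGeometry Opposite TopologicalSpace

noncomputable section

namespace Groth.Agent.REqP1

theorem toP1_fst {S T : Scheme.{u}} (g : S ⟶ T) :
    P1.toP1 g ≫ pullback.fst _ _ = pullback.fst _ _ :=
  (pullback.lift_fst _ _ _).trans (Category.comp_id _)

theorem toP1_toBase {S T : Scheme.{u}} (g : S ⟶ T) :
    P1.toP1 g ≫ CohB1.ProjSpaceOver.toBase 1 T = CohB1.ProjSpaceOver.toBase 1 S ≫ g :=
  pullback.lift_snd _ _ _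

theorem toP1_comp {R S T : Scheme.{u}} (g : R ⟶ S) (h : S ⟶ T) : P1.toP1 g ≫ P1.toP1 h = P1.toP1 (g ≫ h) := by
  apply pullback.hom_ext
  · rw [Category.assoc, toP1_fst, toP1_fst, toP1_fst]
  · show _ ≫ CohB1.ProjSpaceOver.toBase 1 T = _ ≫ CohB1.ProjSpaceOver.toBase 1 T
    rw [Category.assoc, toP1_toBase, ← Category.assoc, toP1_toBase, Category.assoc, toP1_toBase]

theorem toP1_isPullback {S T : Scheme.{u}} (g : S ⟶ T) :
    IsPullback (P1.toP1 g) (CohB1.ProjSpaceOver.toBase 1 S) (CohB1.ProjSpaceOver.toBase 1 T) g := by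
  have h : IsPullback (P1.toP1 g ≫ pullback.fst (CohB1.ProjSpace.toSpec 1 (ULift.{u} ℤ))
      (specULiftZIsTerminal.from T)) (CohB1.ProjSpaceOver.toBase 1 S)
      (CohB1.ProjSpace.toSpec 1 (ULift.{u} ℤ)) (g ≫ specULiftZIsTerminal.from T) := by
    rw [toP1_fst, show g ≫ specULiftZIsTerminal.from T = specULiftZIsTerminal.from S from
      specULiftZIsTerminal.hom_ext _ _]
    exact IsPullback.of_hasPullback _ _
  exact IsPullback.of_right h (toP1_toBase g) (IsPullback.of_hasPullback _ _)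

theorem isIntegral_over' (V : Scheme.{u}) [IsAffine V] [IsIntegral V] :
    IsIntegral (CohB1.ProjSpaceOver 1 V) := by
  letI : Algebra P1.R0.{u} Γ(V, ⊤) :=
    ((Int.castRingHom Γ(V, ⊤)).comp ULift.ringEquiv.toRingHom).toAlgebra
  haveI : IsIntegral (CohB1.ProjSpaceOver 1 (Spec (CommRingCat.of Γ(V, ⊤)))) := isIntegral_over Γ(V, ⊤)
  let φ : CohB1.ProjSpaceOver 1 V ⟶ CohB1.ProjSpaceOver 1 (Spec Γ(V, ⊤)) := P1.toP1 V.isoSpec.hom
  haveI : IsOpenImmersion φ := MorphismProperty.of_isPullback (toP1_isPullback V.isoSpec.hom).flip inferInstance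
  haveI : Nonempty ↥(CohB1.ProjSpaceOver 1 V) := ⟨P1.sect V 0 (Classical.arbitrary _)⟩
  exact isIntegral_of_isOpenImmersion φ

instance isProper_base (S : Scheme.{u}) : IsProper (CohB1.ProjSpaceOver.toBase 1 S) :=
  Groth.Agent.HQProj.isProper_toBase 1 S

variable {k : Type u} [Field k] {X : Scheme.{u}} (f : X ⟶ Spec (CommRingCat.of k)) [IsIntegral X]

/-- The function field over `k`. -/
abbrev kToK : k →+* X.functionField :=
  (Spec.preimage (X.fromSpecStalk (genericPoint X) ≫ f)).hom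

theorem specMap_kToK :
    Spec.map (CommRingCat.ofHom (kToK f)) = X.fromSpecStalk (genericPoint X) ≫ f := by
  rw [kToK, CommRingCat.ofHom_hom]
  exact Spec.map_preimage _

variable (U : X.Opens) (hU : genericPoint X ∈ U)

/-- The generic point of an open. -/
abbrev gen : Spec (X.presheaf.stalk (genericPoint X)) ⟶ U := U.fromSpecStalkOfMem _ hU

theorem gen_ι : gen U hU ≫ U.ι = X.fromSpecStalk (genericPoint X) := U.fromSpecStalkOfMem_ι _ hU

theorem gen_range (z : ↥(Spec (X.presheaf.stalk (genericPoint X)))) :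
    (gen U hU z).1 = genericPoint X := by
  have : Subsingleton ↥(Spec (X.presheaf.stalk (genericPoint X))) :=
    inferInstanceAs (Subsingleton (PrimeSpectrum X.functionField))
  rw [Subsingleton.elim z (IsLocalRing.closedPoint _)]
  show U.ι (gen U hU _) = _
  rw [← Scheme.Hom.comp_apply, gen_ι, Scheme.fromSpecStalk_closedPoint]

instance isDominant_gen : IsDominant (gen U hU) := by
  refine ⟨dense_iff_inter_open.2 fun O hO ⟨o, ho⟩ => ?_⟩
  refine ⟨gen U hU (IsLocalRing.closedPoint _), ?_, Set.mem_range_self _⟩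
  have h1 : gen U hU (IsLocalRing.closedPoint _) ⤳ o := by
    rw [← U.ι.isOpenEmbedding.isInducing.specializes_iff]
    show (gen U hU _).1 ⤳ o.1
    rw [gen_range]
    exact genericPoint_specializes _
  exact h1.mem_open hO ho

theorem exists_extend {Z S : Scheme.{u}} (sX : X ⟶ S) (sZ : Z ⟶ S) [LocallyOfFiniteType sZ]
    (A : Spec (X.presheaf.stalk (genericPoint X)) ⟶ Z)
    (hA : A ≫ sZ = X.fromSpecStalk (genericPoint X) ≫ sX) :
    ∃ (W : X.Opens) (hW : genericPoint X ∈ W) (a : (W : Scheme.{u}) ⟶ Z),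
      gen W hW ≫ a = A ∧ a ≫ sZ = W.ι ≫ sX := by
  obtain ⟨W, hW, a, h1, h2⟩ := spread_out_of_isGermInjective' sX sZ A hA
  exact ⟨W, hW, a, h1.symm, h2⟩

theorem gen_homOfLE {V : X.Opens} (hV : genericPoint X ∈ V) (h : V ≤ U) :
    gen V hV ≫ X.homOfLE h = gen U hU := by
  rw [← cancel_mono U.ι, Category.assoc, Scheme.homOfLE_ι, gen_ι, gen_ι]

theorem hom_ext_gen {Z S : Scheme.{u}} (sZ : Z ⟶ S) [IsSeparated sZ] (a b : (U : Scheme.{u}) ⟶ Z)
    (h1 : a ≫ sZ = b ≫ sZ) (h2 : gen U hU ≫ a = gen U hU ≫ b) : a = b :=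
  ext_of_isDominant_of_isSeparated sZ h1 (gen U hU) h2

variable {Φ : (Over (Spec (CommRingCat.of k)))ᵒᵖ ⥤ Type v}

/-- Equal pullback operators. -/
def Same {W : X.Opens} (a b : Over.mk (W.ι ≫ f) ⟶ Over.mk f) : Prop :=
  ∀ s, Φ.map a.op s = Φ.map b.op s

theorem same_restrict {W V : X.Opens} (h : V ≤ W) {a b : Over.mk (W.ι ≫ f) ⟶ Over.mk f}
    (hab : Same f (Φ := Φ) a b) :
    Same f (Φ := Φ) ((Over.homMk (X.homOfLE h) (by simp) : Over.mk (V.ι ≫ f) ⟶ Over.mk (W.ι ≫ f)) ≫ a)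
      ((Over.homMk (X.homOfLE h) (by simp) : Over.mk (V.ι ≫ f) ⟶ Over.mk (W.ι ≫ f)) ≫ b) := by
  intro s
  rw [op_comp, op_comp, Functor.map_comp]
  simp only [Functor.map_comp, types_comp_apply]
  rw [hab s]

variable (Φ) in
/-- Two generic points are identified by `Φ` over some open. -/
def Good (A B : Spec (X.presheaf.stalk (genericPoint X)) ⟶ X) : Prop :=
  ∃ (W : X.Opens) (hW : genericPoint X ∈ W) (a b : Over.mk (W.ι ≫ f) ⟶ Over.mk f),
    IsAffineOpen W ∧ Smooth (W.ι ≫ f) ∧ gen W hW ≫ a.left = A ∧ gen W hW ≫ b.left = B ∧ Same f (Φ := Φ) a b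

theorem exists_small (V : X.Opens) (hV : genericPoint X ∈ V) :
    ∃ W : X.Opens, genericPoint X ∈ W ∧ W ≤ V ∧ IsAffineOpen W := by
  obtain ⟨W, hW, h1, h2⟩ := exists_isAffineOpen_mem_and_subset (X := X) (U := V) hV
  exact ⟨W, h1, h2, hW⟩

theorem smooth_mono {W V : X.Opens} (h : W ≤ V) (hV : Smooth (V.ι ≫ f)) : Smooth (W.ι ≫ f) := by
  haveI := hV
  rw [← X.homOfLE_ι h, Category.assoc]
  infer_instance

theorem good_refl (V₀ : X.Opens) (h₀ : genericPoint X ∈ V₀) (hs : Smooth (V₀.ι ≫ f)) [LocallyOfFiniteType f]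
    (A : Spec (X.presheaf.stalk (genericPoint X)) ⟶ X) (hA : A ≫ f = X.fromSpecStalk (genericPoint X) ≫ f) :
    Good f Φ A A := by
  obtain ⟨W, hW, a, h1, h2⟩ := exists_extend f f A hA
  obtain ⟨W', hW', hle, haff⟩ := exists_small (W ⊓ V₀) ⟨hW, h₀⟩
  let a' : Over.mk (W'.ι ≫ f) ⟶ Over.mk f := Over.homMk (X.homOfLE (hle.trans inf_le_left) ≫ a) (by
    show (X.homOfLE _ ≫ a) ≫ f = W'.ι ≫ f
    rw [Category.assoc, h2, Scheme.homOfLE_ι_assoc])
  have e : gen W' hW' ≫ a'.left = A := by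
    show gen W' hW' ≫ X.homOfLE _ ≫ a = A
    rw [← Category.assoc, gen_homOfLE W hW, h1]
  exact ⟨W', hW', a', a', haff, smooth_mono f (hle.trans inf_le_right) hs, e, e, fun _ => rfl⟩

theorem good_symm {A B : Spec (X.presheaf.stalk (genericPoint X)) ⟶ X} (h : Good f Φ A B) : Good f Φ B A := by
  obtain ⟨W, hW, a, b, h1, h2, h3, h4, h5⟩ := h
  exact ⟨W, hW, b, a, h1, h2, h4, h3, fun s => (h5 s).symm⟩

theorem good_trans [IsSeparated f] {A B C : Spec (X.presheaf.stalk (genericPoint X)) ⟶ X}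
    (h : Good f Φ A B) (h' : Good f Φ B C) : Good f Φ A C := by
  obtain ⟨W, hW, a, b, -, hs, h3, h4, h5⟩ := h
  obtain ⟨W', hW', b', c, -, -, h3', h4', h5'⟩ := h'
  obtain ⟨T, hT, hle, haff⟩ := exists_small (W ⊓ W') ⟨hW, hW'⟩
  let i : Over.mk (T.ι ≫ f) ⟶ Over.mk (W.ι ≫ f) := Over.homMk (X.homOfLE (hle.trans inf_le_left)) (by simp)
  let i' : Over.mk (T.ι ≫ f) ⟶ Over.mk (W'.ι ≫ f) := Over.homMk (X.homOfLE (hle.trans inf_le_right)) (by simp)
  have e : i ≫ b = i' ≫ b' := by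
    ext : 1
    refine hom_ext_gen T hT f _ _ ((Over.w (i ≫ b)).trans (Over.w (i' ≫ b')).symm) ?_
    show gen T hT ≫ X.homOfLE (hle.trans inf_le_left) ≫ b.left =
      gen T hT ≫ X.homOfLE (hle.trans inf_le_right) ≫ b'.left
    rw [← Category.assoc, ← Category.assoc, gen_homOfLE W hW, gen_homOfLE W' hW', h4, h3']
  refine ⟨T, hT, i ≫ a, i' ≫ c, haff, smooth_mono f (hle.trans inf_le_left) hs, ?_, ?_, fun s => ?_⟩
  · show gen T hT ≫ X.homOfLE (hle.trans inf_le_left) ≫ a.left = A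
    rw [← Category.assoc, gen_homOfLE W hW, h3]
  · show gen T hT ≫ X.homOfLE (hle.trans inf_le_right) ≫ c.left = C
    rw [← Category.assoc, gen_homOfLE W' hW', h4']
  · rw [same_restrict f (hle.trans inf_le_left) h5 s]
    show Φ.map (i ≫ b).op s = _
    rw [e]
    exact same_restrict f (hle.trans inf_le_right) h5' s

theorem exists_section (A : Spec (X.presheaf.stalk (genericPoint X)) ⟶
      CohB1.ProjSpaceOver 1 (Spec (CommRingCat.of X.functionField)))
    (hA : A ≫ CohB1.ProjSpaceOver.toBase 1 _ = 𝟙 _) :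
    ∃ (W : X.Opens), genericPoint X ∈ W ∧ ∀ (V : X.Opens) (hV : genericPoint X ∈ V), V ≤ W →
      ∃ s : (V : Scheme.{u}) ⟶ CohB1.ProjSpaceOver 1 V, s ≫ CohB1.ProjSpaceOver.toBase 1 V = 𝟙 _ ∧
        A ≫ P1.toP1 (gen V hV) = gen V hV ≫ s := by
  let pr := pullback.fst (CohB1.ProjSpace.toSpec 1 (ULift.{u} ℤ))
    (specULiftZIsTerminal.from (Spec (CommRingCat.of X.functionField)))
  haveI : LocallyOfFiniteType (CohB1.ProjSpace.toSpec 1 (ULift.{u} ℤ)) := by
    haveI := ProjMor.isProper_toSpec.{u} 1 (ULift.{u} ℤ)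
    infer_instance
  obtain ⟨W, hW, a, h1, -⟩ := exists_extend (specULiftZIsTerminal.from X)
    (CohB1.ProjSpace.toSpec 1 (ULift.{u} ℤ)) (A ≫ pr) (specULiftZIsTerminal.hom_ext _ _)
  refine ⟨W, hW, fun V hV hle => ⟨pullback.lift (X.homOfLE hle ≫ a) (𝟙 _) (specULiftZIsTerminal.hom_ext _ _),
    pullback.lift_snd _ _ _, ?_⟩⟩
  apply pullback.hom_ext
  · rw [Category.assoc, toP1_fst, Category.assoc, pullback.lift_fst, ← Category.assoc,
      gen_homOfLE W hW, h1]
  · show _ ≫ CohB1.ProjSpaceOver.toBase 1 _ = _ ≫ CohB1.ProjSpaceOver.toBase 1 _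
    rw [Category.assoc, toP1_toBase, ← Category.assoc, hA, Category.id_comp, Category.assoc]
    exact ((congrArg (gen V hV ≫ ·) (pullback.lift_snd _ _ _)).trans (Category.comp_id _)).symm

theorem good_of_link [IsProper f] (V₀ : X.Opens) (h₀ : genericPoint X ∈ V₀) (hs₀ : Smooth (V₀.ι ≫ f))
    (hΦ : ∀ (Y : Scheme.{u}) (g : Y ⟶ Spec (CommRingCat.of k)) [IsIntegral Y] [Smooth g] [IsSeparated g]
      [QuasiCompact g], Function.Bijective (Φ.map
        (Over.homMk (CohB1.ProjSpaceOver.toBase 1 Y) rfl :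
          Over.mk (CohB1.ProjSpaceOver.toBase 1 Y ≫ g) ⟶ Over.mk g).op))
    (W : (CohB1.ProjSpaceOver 1 (Spec (CommRingCat.of X.functionField))).Opens)
    (h : (W : Scheme.{u}) ⟶ X) (a b : Spec (X.presheaf.stalk (genericPoint X)) ⟶ (W : Scheme.{u}))
    (hh : h ≫ f = W.ι ≫ CohB1.ProjSpaceOver.toBase 1 _ ≫ X.fromSpecStalk (genericPoint X) ≫ f)
    (ha : a ≫ W.ι ≫ CohB1.ProjSpaceOver.toBase 1 _ = 𝟙 _)
    (hb : b ≫ W.ι ≫ CohB1.ProjSpaceOver.toBase 1 _ = 𝟙 _) :
    Good f Φ (a ≫ h) (b ≫ h) := by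
  obtain ⟨Wa, hWa, hsa⟩ := exists_section (a ≫ W.ι) (by rw [Category.assoc]; exact ha)
  obtain ⟨Wb, hWb, hsb⟩ := exists_section (b ≫ W.ι) (by rw [Category.assoc]; exact hb)
  obtain ⟨U, hU, hUle, hUaff⟩ := exists_small (V₀ ⊓ (Wa ⊓ Wb)) ⟨h₀, hWa, hWb⟩
  letI : Algebra P1.R0.{u} X.functionField :=
    ((Int.castRingHom X.functionField).comp ULift.ringEquiv.toRingHom).toAlgebra
  let K1 := CohB1.ProjSpaceOver 1 (Spec (CommRingCat.of X.functionField))
  haveI : IsIntegral K1 := isIntegral_over X.functionField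
  haveI : IsAffine (U : Scheme.{u}) := hUaff
  haveI : Nonempty U := ⟨⟨_, hU⟩⟩
  haveI : IsLocallyNoetherian X := LocallyOfFiniteType.isLocallyNoetherian f
  haveI : IsIntegral (CohB1.ProjSpaceOver 1 (U : Scheme.{u})) := isIntegral_over' (U : Scheme.{u})
  haveI : IsLocallyNoetherian (CohB1.ProjSpaceOver 1 (U : Scheme.{u})) :=
    LocallyOfFiniteType.isLocallyNoetherian (CohB1.ProjSpaceOver.toBase 1 (U : Scheme.{u}))
  let j : K1 ⟶ CohB1.ProjSpaceOver 1 (U : Scheme.{u}) := P1.toP1 (gen U hU)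
  haveI : Flat (gen U hU) := by
    haveI := Groth.Agent.GrpField.flat_fromSpecStalk (X := (U : Scheme.{u})) ⟨_, hU⟩
    unfold gen Scheme.Opens.fromSpecStalkOfMem
    infer_instance
  haveI : IsPreimmersion (gen U hU) := by
    unfold gen Scheme.Opens.fromSpecStalkOfMem
    infer_instance
  haveI : Flat j := MorphismProperty.of_isPullback (P := @Flat) (toP1_isPullback (gen U hU)).flip inferInstance
  haveI : IsPreimmersion j :=
    MorphismProperty.of_isPullback (P := @IsPreimmersion) (toP1_isPullback (gen U hU)).flip inferInstance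
  have hj : ∀ w, IsIso (j.stalkMap w) := fun w => by
    rw [ConcreteCategory.isIso_iff_bijective]
    refine ⟨?_, j.stalkMap_surjective w⟩
    algebraize [(j.stalkMap w).hom]
    haveI : Module.Flat _ _ := Flat.stalkMap j w
    haveI : IsLocalHom (algebraMap ((CohB1.ProjSpaceOver 1 (U : Scheme.{u})).presheaf.stalk (j w))
      (K1.presheaf.stalk w)) := j.toLRSHom.prop w
    haveI : Module.FaithfullyFlat ((CohB1.ProjSpaceOver 1 (U : Scheme.{u})).presheaf.stalk (j w))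
      (K1.presheaf.stalk w) := Module.FaithfullyFlat.of_flat_of_isLocalHom
    exact FaithfulSMul.algebraMap_injective _ _
  let sU : CohB1.ProjSpaceOver 1 (U : Scheme.{u}) ⟶ Spec (CommRingCat.of k) :=
    CohB1.ProjSpaceOver.toBase 1 _ ≫ U.ι ≫ f
  have hjs : j ≫ sU = CohB1.ProjSpaceOver.toBase 1 _ ≫ X.fromSpecStalk (genericPoint X) ≫ f := by
    rw [← gen_ι U hU, Category.assoc]
    exact (reassoc_of% (toP1_toBase (gen U hU))) _
  -- the map near the generic point of the generic fibre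
  let z := genericPoint ↥K1
  have hzW : z ∈ W :=
    ((genericPoint_spec ↥K1).mem_open_set_iff W.2).mpr ⟨_, trivial,
      (a (IsLocalRing.closedPoint _)).2⟩
  haveI := hj z
  let φ : Spec ((CohB1.ProjSpaceOver 1 (U : Scheme.{u})).presheaf.stalk (j z)) ⟶ X :=
    inv (Spec.map (j.stalkMap z)) ≫ W.fromSpecStalkOfMem z hzW ≫ h
  have hφ : φ ≫ f = (CohB1.ProjSpaceOver 1 (U : Scheme.{u})).fromSpecStalk (j z) ≫ sU := by
    rw [Category.assoc, Category.assoc, IsIso.inv_comp_eq, Scheme.SpecMap_stalkMap_fromSpecStalk_assoc, hh,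
      hjs, ← Category.assoc (W.fromSpecStalkOfMem z hzW), Scheme.Opens.fromSpecStalkOfMem_ι]
    rfl
  obtain ⟨G, hzG, g, hg1, hg2⟩ := spread_out_of_isGermInjective' sU f φ hφ
  have hGd : Dense (G : Set ↥(CohB1.ProjSpaceOver 1 (U : Scheme.{u}))) := G.2.dense ⟨_, hzG⟩
  obtain ⟨G', hGG', g', hg'1, hg'2, hG'⟩ := Groth.Agent.RatExt.exists_hom_points f sU G hGd g hg2
    (Set.range j) (by
      rintro _ ⟨w, rfl⟩
      haveI := hj w
      obtain ⟨hdom, hval⟩ := valuationRing_stalk w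
      let e := (asIso (j.stalkMap w)).commRingCatIsoToRingEquiv
      haveI : IsDomain ((CohB1.ProjSpaceOver 1 (U : Scheme.{u})).presheaf.stalk (j w)) :=
        e.injective.isDomain e.toRingHom
      exact ⟨inferInstance, Function.Surjective.valuationRing e.symm.toRingHom e.symm.surjective⟩)
  let jl : K1 ⟶ (G' : Scheme.{u}) := IsOpenImmersion.lift G'.ι j (by
    rw [Scheme.Opens.range_ι]
    rintro _ ⟨w, rfl⟩
    exact hG' _ ⟨w, rfl⟩)
  have hjl : jl ≫ G'.ι = j := IsOpenImmersion.lift_fac _ _ _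
  have hWh : W.ι ≫ jl ≫ g' = h := by
    haveI : IsDominant (W.fromSpecStalkOfMem z hzW) := by
      refine ⟨dense_iff_inter_open.2 fun O hO ⟨o, ho⟩ => ?_⟩
      refine ⟨W.fromSpecStalkOfMem z hzW (IsLocalRing.closedPoint _), ?_, Set.mem_range_self _⟩
      have h1 : W.fromSpecStalkOfMem z hzW (IsLocalRing.closedPoint _) ⤳ o := by
        rw [← W.ι.isOpenEmbedding.isInducing.specializes_iff]
        rw [← Scheme.Hom.comp_apply, Scheme.Opens.fromSpecStalkOfMem_ι, Scheme.fromSpecStalk_closedPoint]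
        exact genericPoint_specializes _
      exact h1.mem_open hO ho
    refine ext_of_isDominant_of_isSeparated f ?_ (W.fromSpecStalkOfMem z hzW) ?_
    · rw [Category.assoc, Category.assoc, hg'1, reassoc_of% hjl, hh, hjs]
      rfl
    · have e1 : W.fromSpecStalkOfMem z hzW ≫ W.ι ≫ jl =
          Spec.map (j.stalkMap z) ≫ G.fromSpecStalkOfMem (j z) hzG ≫ (CohB1.ProjSpaceOver 1 _).homOfLE hGG' := by
        rw [← cancel_mono G'.ι]
        simp only [Category.assoc, Scheme.homOfLE_ι, hjl, Scheme.Opens.fromSpecStalkOfMem_ι,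
          Scheme.Opens.fromSpecStalkOfMem_ι_assoc, Scheme.SpecMap_stalkMap_fromSpecStalk]
        rfl
      rw [reassoc_of% e1, hg'2, ← hg1, IsIso.hom_inv_id_assoc]
  -- shrink the base
  have hC : IsClosed (CohB1.ProjSpaceOver.toBase 1 (U : Scheme.{u}) '' (G' : Set _)ᶜ) :=
    (CohB1.ProjSpaceOver.toBase 1 (U : Scheme.{u})).isClosedMap _ G'.2.isClosed_compl
  let V : X.Opens := U.ι ''ᵁ ⟨(CohB1.ProjSpaceOver.toBase 1 (U : Scheme.{u}) '' (G' : Set _)ᶜ)ᶜ, hC.isOpen_compl⟩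
  have hV : genericPoint X ∈ V := by
    refine ⟨gen U hU (IsLocalRing.closedPoint _), ?_, gen_range U hU _⟩
    rintro ⟨p, hp, hpg⟩
    obtain ⟨w, hw, -⟩ := Scheme.exists_preimage_of_isPullback (toP1_isPullback (gen U hU)) p
      (IsLocalRing.closedPoint _) hpg
    exact hp (hw ▸ hG' _ ⟨w, rfl⟩)
  obtain ⟨T, hT, hTV, hTaff⟩ := exists_small V hV
  have hTU : T ≤ U := hTV.trans (fun _ hx => by
    obtain ⟨x, -, rfl⟩ := hx
    exact x.2)
  let inc := P1.toP1 (X.homOfLE hTU)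
  let H : CohB1.ProjSpaceOver 1 (T : Scheme.{u}) ⟶ X := IsOpenImmersion.lift G'.ι inc (by
    rw [Scheme.Opens.range_ι]
    rintro _ ⟨p, rfl⟩
    by_contra hp
    obtain ⟨x, hx, hxeq⟩ := hTV (CohB1.ProjSpaceOver.toBase 1 (T : Scheme.{u}) p).2
    refine hx ⟨inc p, hp, U.ι.isOpenEmbedding.injective ?_⟩
    refine Eq.trans ?_ hxeq.symm
    show (P1.toP1 (X.homOfLE hTU) ≫ CohB1.ProjSpaceOver.toBase 1 (U : Scheme.{u}) ≫ U.ι) p = _
    rw [← Category.assoc, toP1_toBase, Category.assoc, Scheme.homOfLE_ι]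
    rfl) ≫ g'
  have hH : H ≫ f = CohB1.ProjSpaceOver.toBase 1 (T : Scheme.{u}) ≫ T.ι ≫ f := by
    rw [Category.assoc, hg'1, IsOpenImmersion.lift_fac_assoc, reassoc_of% (toP1_toBase (X.homOfLE hTU)),
      Scheme.homOfLE_ι_assoc]
  obtain ⟨sa, hsa1, hsa2⟩ := hsa T hT (hTU.trans (hUle.trans (inf_le_right.trans inf_le_left)))
  obtain ⟨sb, hsb1, hsb2⟩ := hsb T hT (hTU.trans (hUle.trans (inf_le_right.trans inf_le_right)))
  have key : P1.toP1 (gen T hT) ≫ H = jl ≫ g' := by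
    rw [← Category.assoc]
    congr 1
    rw [← cancel_mono G'.ι, Category.assoc, IsOpenImmersion.lift_fac, hjl, toP1_comp, gen_homOfLE U hU]
  haveI : Nonempty T := ⟨⟨_, hT⟩⟩
  haveI : IsAffine (T : Scheme.{u}) := hTaff
  haveI hsm : Smooth (T.ι ≫ f) := smooth_mono f (hTU.trans (hUle.trans inf_le_left)) hs₀
  let π : Over.mk (CohB1.ProjSpaceOver.toBase 1 (T : Scheme.{u}) ≫ T.ι ≫ f) ⟶ Over.mk (T.ι ≫ f) :=
    Over.homMk (CohB1.ProjSpaceOver.toBase 1 (T : Scheme.{u})) rfl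
  let Ho : Over.mk (CohB1.ProjSpaceOver.toBase 1 (T : Scheme.{u}) ≫ T.ι ≫ f) ⟶ Over.mk f := Over.homMk H hH
  let oa : Over.mk (T.ι ≫ f) ⟶ Over.mk (CohB1.ProjSpaceOver.toBase 1 (T : Scheme.{u}) ≫ T.ι ≫ f) :=
    Over.homMk sa (by show sa ≫ _ ≫ _ = _; rw [reassoc_of% hsa1]; rfl)
  let ob : Over.mk (T.ι ≫ f) ⟶ Over.mk (CohB1.ProjSpaceOver.toBase 1 (T : Scheme.{u}) ≫ T.ι ≫ f) :=
    Over.homMk sb (by show sb ≫ _ ≫ _ = _; rw [reassoc_of% hsb1]; rfl)
  have hoa : oa ≫ π = 𝟙 _ := by ext : 1; exact hsa1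
  have hob : ob ≫ π = 𝟙 _ := by ext : 1; exact hsb1
  refine ⟨T, hT, oa ≫ Ho, ob ≫ Ho, hTaff, hsm, ?_, ?_, fun s => ?_⟩
  · show gen T hT ≫ sa ≫ H = a ≫ h
    rw [← Category.assoc, ← hsa2, Category.assoc, Category.assoc, key, hWh]
  · show gen T hT ≫ sb ≫ H = b ≫ h
    rw [← Category.assoc, ← hsb2, Category.assoc, Category.assoc, key, hWh]
  · haveI : IsSeparated (T.ι ≫ f) := inferInstance
    haveI : CompactSpace T := isCompact_iff_compactSpace.1 hTaff.isCompact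
    haveI : QuasiCompact (T.ι ≫ f) := quasiCompact_of_compactSpace _
    obtain ⟨t, ht⟩ := (hΦ (T : Scheme.{u}) (T.ι ≫ f)).2 (Φ.map Ho.op s)
    rw [op_comp, op_comp, Functor.map_comp, Functor.map_comp]
    simp only [types_comp_apply]
    rw [← ht]
    simp only [← types_comp_apply (Φ.map _) (Φ.map _), ← Functor.map_comp, ← op_comp]
    erw [hoa, hob]

theorem main (hsm : ∃ V : X.Opens, (V : Set X).Nonempty ∧ Smooth (V.ι ≫ f)) [IsProper f]
    (hΦ : ∀ (Y : Scheme.{u}) (g : Y ⟶ Spec (CommRingCat.of k)) [IsIntegral Y] [Smooth g] [IsSeparated g]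
      [QuasiCompact g], Function.Bijective (Φ.map
        (Over.homMk (CohB1.ProjSpaceOver.toBase 1 Y) rfl :
          Over.mk (CohB1.ProjSpaceOver.toBase 1 Y ≫ g) ⟶ Over.mk g).op))
    (hR : REq.IsAlmostRTrivial f) :
    ∃ U : X.Opens, (U : Set X).Nonempty ∧ Smooth (U.ι ≫ f) ∧
      Set.range (Φ.map (Over.homMk U.ι rfl : Over.mk (U.ι ≫ f) ⟶ Over.mk f).op) =
        Set.range (Φ.map (Over.homMk (U.ι ≫ f) (Category.comp_id _) :
          Over.mk (U.ι ≫ f) ⟶ Over.mk (𝟙 (Spec (CommRingCat.of k)))).op) := by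
  obtain ⟨V₀, hV₀, hs₀⟩ := hsm
  have h₀ : genericPoint X ∈ V₀ :=
    ((genericPoint_spec ↥X).mem_open_set_iff V₀.2).mpr (by simpa using hV₀)
  obtain ⟨U₀, hU₀, hpts⟩ := hR
  have hu₀ : genericPoint X ∈ U₀ :=
    ((genericPoint_spec ↥X).mem_open_set_iff U₀.2).mpr (by simpa using hU₀.nonempty)
  obtain ⟨x₀, hx₀⟩ := (hpts k).1
  letI : Algebra k X.functionField := (kToK f).toAlgebra
  have hsp : REq.specMap k X.functionField = X.fromSpecStalk (genericPoint X) ≫ f := specMap_kToK f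
  let η : REq.Pts f X.functionField := ⟨X.fromSpecStalk (genericPoint X), hsp.symm⟩
  have hx₀f : x₀.1 ≫ f = 𝟙 _ := by
    rw [x₀.2, REq.specMap, Algebra.algebraMap_self]
    exact Spec.map_id _
  let B : REq.Pts f X.functionField := ⟨REq.specMap k X.functionField ≫ x₀.1, by
    rw [Category.assoc, hx₀f, Category.comp_id]⟩
  have hη : REq.InOpen f U₀ η := by
    rintro _ ⟨w, rfl⟩
    haveI : Subsingleton ↥(Spec (CommRingCat.of X.functionField)) :=
      inferInstanceAs (Subsingleton (PrimeSpectrum X.functionField))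
    rw [Subsingleton.elim w (IsLocalRing.closedPoint X.functionField)]
    show X.fromSpecStalk (genericPoint X) (IsLocalRing.closedPoint _) ∈ U₀
    rw [Scheme.fromSpecStalk_closedPoint]
    exact hu₀
  have hB : REq.InOpen f U₀ B := by
    rintro _ ⟨w, rfl⟩
    exact hx₀ ⟨REq.specMap k X.functionField w, rfl⟩
  have key : ∀ A C : REq.Pts f X.functionField, REq.REquiv f X.functionField A C → Good f Φ A.1 C.1 := by
    intro A C h
    induction h with
    | rel A C h =>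
      obtain ⟨W, m, a, b, h1, h2, h3, h4, h5⟩ := h
      rw [← h4, ← h5]
      exact good_of_link f V₀ h₀ hs₀ hΦ W m a b (h1.trans (by rw [hsp])) h2 h3
    | refl A => exact good_refl f V₀ h₀ hs₀ A.1 (A.2.trans hsp)
    | symm A C _ ih => exact good_symm f ih
    | trans A C D _ _ ih ih' => exact good_trans f ih ih'
  obtain ⟨W, hW, a, b, -, hsW, ha, hb, hab⟩ := key η B ((hpts X.functionField).2 η B hη hB)
  let q : Over.mk (W.ι ≫ f) ⟶ Over.mk (𝟙 (Spec (CommRingCat.of k))) :=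
    Over.homMk (W.ι ≫ f) (Category.comp_id _)
  let x : Over.mk (𝟙 (Spec (CommRingCat.of k))) ⟶ Over.mk f := Over.homMk x₀.1 hx₀f
  let p : Over.mk f ⟶ Over.mk (𝟙 (Spec (CommRingCat.of k))) := Over.homMk f (Category.comp_id _)
  let i : Over.mk (W.ι ≫ f) ⟶ Over.mk f := Over.homMk W.ι rfl
  have ea : a = i := by
    ext : 1
    exact hom_ext_gen W hW f _ _ (Over.w a) (ha.trans (gen_ι W hW).symm)
  have eb : b = q ≫ x := by
    ext : 1
    refine hom_ext_gen W hW f _ _ ((Over.w b).trans (Over.w (q ≫ x)).symm) (hb.trans ?_)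
    show REq.specMap k X.functionField ≫ x₀.1 = gen W hW ≫ (W.ι ≫ f) ≫ x₀.1
    rw [Category.assoc, ← Category.assoc (gen W hW), gen_ι, hsp, Category.assoc]
  refine ⟨W, ⟨_, hW⟩, hsW, Set.Subset.antisymm ?_ ?_⟩
  · rintro _ ⟨s, rfl⟩
    refine ⟨Φ.map x.op s, ?_⟩
    have := hab s
    rw [ea, eb, op_comp, Functor.map_comp] at this
    exact this.symm
  · rintro _ ⟨c, rfl⟩
    refine ⟨Φ.map p.op c, ?_⟩
    have e : q = i ≫ p := by ext : 1; rfl
    show Φ.map i.op (Φ.map p.op c) = Φ.map q.op c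
    rw [e, op_comp, Functor.map_comp]
    rfl

end Groth.Agent.REqP1
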