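import Groth.Prelude.Def_P1
import Groth.Agent.CohFinite.ProjSpace
import Mathlib.RingTheory.PolynomialAlgebra
import Mathlib.RingTheory.TensorProduct.Maps
import Mathlib.Algebra.Category.Ring.Constructions
import Mathlib.AlgebraicGeometry.Pullbacks
import Mathlib.RingTheory.PrincipalIdealDomain
import Mathlib.AlgebraicGeometry.Morphisms.OpenImmersion
import Mathlib.AlgebraicGeometry.Properties
import Mathlib.RingTheory.Valuation.ValuationRing
import Mathlib.RingTheory.Localization.AtPrime.Basic
import Mathlib.AlgebraicGeometry.AffineScheme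

/-!
# The two charts of the relative projective line over an affine base
-/

set_option autoImplicit false
set_option backward.isDefEq.respectTransparency false

universe u

open CategoryTheory CategoryTheory.Limits AlgebraicGeometry TensorProduct

noncomputable section

namespace Groth.Agent.REqP1

theorem domain_valuationRing_localization {R : Type u} [CommRing R] [IsDomain R] [IsPrincipalIdealRing R]
    (P : Ideal R) [P.IsPrime] (S : Type u) [CommRing S] [Algebra R S] [IsLocalization.AtPrime S P] :
    ∃ _ : IsDomain S, ValuationRing S := by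
  haveI : IsDomain S := IsLocalization.isDomain_of_le_nonZeroDivisors S P.primeCompl_le_nonZeroDivisors
  haveI : IsPrincipalIdealRing S := ⟨fun J => by
    obtain ⟨⟨b, hb⟩⟩ := IsPrincipalIdealRing.principal (J.comap (algebraMap R S))
    refine ⟨⟨algebraMap _ _ b, ?_⟩⟩
    rw [← IsLocalization.map_under P.primeCompl S J]
    show Ideal.map _ (J.comap _) = _
    rw [hb, Ideal.submodule_span_eq, Ideal.map_span, Set.image_singleton, Ideal.submodule_span_eq]⟩
  haveI : IsLocalRing S := IsLocalization.AtPrime.isLocalRing S P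
  exact ⟨inferInstance, inferInstance⟩

attribute [local instance 2000] Algebra.toModule

open HomogeneousLocalization in
/-- The degree-zero fractions with denominators powers of a coordinate. -/
abbrev Chart (i : Fin (1 + 1)) : Type u := HomogeneousLocalization.Away P1.grading.{u} (P1.T i)

/-- The other coordinate divided by the `i`-th one. -/
def ratioElt (i : Fin (1 + 1)) : Chart.{u} i :=
  HomogeneousLocalization.Away.mk P1.grading (P1.X_mem i) 1 (P1.T (i + 1)) (by simpa using P1.X_mem (i + 1))

theorem ne_succ (i : Fin (1 + 1)) : i + 1 ≠ i := by fin_cases i <;> simp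

theorem chartMap_mk (i : Fin (1 + 1)) {B : Type u} [CommRing B] (b : B) (n : ℕ)
    (a : MvPolynomial (Fin (1 + 1)) P1.R0.{u}) (ha : a ∈ P1.grading (n • 1)) :
    P1.chartMap i B b (HomogeneousLocalization.Away.mk P1.grading (P1.X_mem i) n a ha) =
      MvPolynomial.eval₂Hom ((Int.castRingHom B).comp (ULift.ringEquiv.{0, u}).toRingHom)
        (Function.update (fun _ => b) i 1) a := by
  rw [P1.chartMap, RingHom.comp_apply]
  show IsLocalization.Away.lift _ _ (HomogeneousLocalization.Away.mk P1.grading (P1.X_mem i) n a ha).val = _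
  rw [HomogeneousLocalization.Away.val_mk, Localization.mk_eq_mk', IsLocalization.Away.lift,
    IsLocalization.lift_mk', Units.mul_inv_eq_iff_eq_mul, IsUnit.coe_liftRight]
  simp

theorem chartMap_bijective (i : Fin (1 + 1)) :
    Function.Bijective (P1.chartMap.{u} i (Polynomial P1.R0.{u}) Polynomial.X) := by
  let B := Polynomial P1.R0.{u}
  let φ := MvPolynomial.eval₂Hom ((Int.castRingHom B).comp (ULift.ringEquiv.{0, u}).toRingHom)
    (Function.update (fun _ => (Polynomial.X : B)) i 1)
  refine ⟨?_, ?_⟩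
  · rw [injective_iff_map_eq_zero]
    intro x hx
    obtain ⟨n, a, ha, rfl⟩ := HomogeneousLocalization.Away.mk_surjective P1.grading (P1.X_mem i) x
    rw [chartMap_mk] at hx
    let L := Localization.Away (P1.T.{u} i)
    let alg : MvPolynomial (Fin (1 + 1)) P1.R0.{u} →+* L := algebraMap _ _
    let w : L := IsLocalization.Away.invSelf (P1.T.{u} i)
    have hw : alg (P1.T i) * w = 1 := IsLocalization.Away.mul_invSelf _
    let ψ : B →+* L := Polynomial.eval₂RingHom (alg.comp MvPolynomial.C) (alg (P1.T (i + 1)) * w)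
    have hψ : ψ.comp φ = MvPolynomial.eval₂Hom (alg.comp MvPolynomial.C)
        (fun j => alg (MvPolynomial.X j) * w) := by
      refine MvPolynomial.ringHom_ext (fun c => ?_) (fun j => ?_)
      · rw [RingHom.comp_apply]
        simp only [φ, MvPolynomial.eval₂Hom_C]
        obtain ⟨c⟩ := c
        exact RingHom.congr_fun (RingHom.ext_int (((ψ.comp ((Int.castRingHom B).comp
          (ULift.ringEquiv.{0, u}).toRingHom))).comp (ULift.ringEquiv.{0, u}).symm.toRingHom)
          ((alg.comp MvPolynomial.C).comp (ULift.ringEquiv.{0, u}).symm.toRingHom)) c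
      · rw [RingHom.comp_apply]
        simp only [φ, MvPolynomial.eval₂Hom_X']
        by_cases h : j = i
        · subst h
          rw [Function.update_self, map_one]
          exact hw.symm
        · rw [Function.update_of_ne h]
          obtain rfl : j = i + 1 := by
            fin_cases i <;> fin_cases j <;> simp_all
          exact Polynomial.eval₂_X _ _
    have hhom : MvPolynomial.eval₂Hom (alg.comp MvPolynomial.C) (fun j => alg (MvPolynomial.X j) * w) a =
        w ^ n * alg a := by
      have ha' : MvPolynomial.IsHomogeneous a n := by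
        have := (MvPolynomial.mem_homogeneousSubmodule (n • 1) a).mp ha
        simpa using this
      conv_lhs => rw [a.as_sum]
      conv_rhs => rw [a.as_sum]
      rw [map_sum, map_sum, Finset.mul_sum]
      refine Finset.sum_congr rfl fun d hd => ?_
      have hdeg : (∑ j ∈ d.support, d j) = n := by
        have := ha' (MvPolynomial.mem_support_iff.mp hd)
        simpa [Finsupp.weight_apply, Finsupp.sum] using this
      rw [MvPolynomial.eval₂Hom_monomial, MvPolynomial.monomial_eq, map_mul, RingHom.comp_apply]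
      simp only [Finsupp.prod, map_prod, map_pow, mul_pow, Finset.prod_mul_distrib, Finset.prod_pow_eq_pow_sum, hdeg]
      ring
    have h0 : w ^ n * alg a = 0 := by
      rw [← hhom, ← hψ, RingHom.comp_apply]
      show ψ (φ a) = 0
      rw [show φ a = 0 from hx, map_zero]
    have h1 : alg a = 0 := by
      have := congrArg (alg (P1.T i) ^ n * ·) h0
      simp only [← mul_assoc, ← mul_pow, hw, one_pow, one_mul, mul_zero] at this
      exact this
    apply HomogeneousLocalization.val_injective
    rw [HomogeneousLocalization.Away.val_mk, HomogeneousLocalization.val_zero, Localization.mk_eq_mk',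
      IsLocalization.mk'_eq_mul_mk'_one]
    show alg a * _ = 0
    rw [h1, zero_mul]
  · intro p
    induction p using Polynomial.induction_on' with
    | add p q hp hq =>
      obtain ⟨a, ha⟩ := hp
      obtain ⟨b, hb⟩ := hq
      exact ⟨a + b, by rw [map_add, ha, hb]⟩
    | monomial m c =>
      refine ⟨HomogeneousLocalization.Away.mk P1.grading (P1.X_mem i) m
        (MvPolynomial.C c * P1.T (i + 1) ^ m) ?_, ?_⟩
      · rw [smul_eq_mul, mul_one]
        exact (MvPolynomial.mem_homogeneousSubmodule m _).mpr ((MvPolynomial.isHomogeneous_X_pow (i + 1) m).C_mul c)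
      · rw [chartMap_mk, map_mul, map_pow, MvPolynomial.eval₂Hom_C, MvPolynomial.eval₂Hom_X',
          Function.update_of_ne (ne_succ i), ← Polynomial.C_mul_X_pow_eq_monomial]
        congr 1

/-- The chart is the affine line. -/
def chartEquiv (i : Fin (1 + 1)) : Chart.{u} i ≃+* Polynomial P1.R0.{u} :=
  RingEquiv.ofBijective _ (chartMap_bijective i)

/-- The ring of a chart over `A`. -/
abbrev ChartOver (A : Type u) [CommRing A] [Algebra P1.R0.{u} A] : Type u := (Polynomial P1.R0.{u}) ⊗[P1.R0.{u}] A

variable (A : Type u) [CommRing A] [Algebra P1.R0.{u} A]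

/-- A chart of the projective line over `Spec A`. -/
def chartOver (i : Fin (1 + 1)) :
    Spec (CommRingCat.of (ChartOver A)) ⟶ CohB1.ProjSpaceOver 1 (Spec (CommRingCat.of A)) :=
  pullback.lift
    (Spec.map (CommRingCat.ofHom (((Algebra.TensorProduct.includeLeft (S := P1.R0.{u}) :
        Polynomial P1.R0.{u} →ₐ[P1.R0.{u}] ChartOver A).toRingHom).comp (chartEquiv i).toRingHom)) ≫
      Proj.awayι P1.grading (P1.T i) (P1.X_mem i) one_pos)
    (Spec.map (CommRingCat.ofHom ((Algebra.TensorProduct.includeRight :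
        A →ₐ[P1.R0.{u}] ChartOver A)).toRingHom))
    (specULiftZIsTerminal.hom_ext _ _)

theorem chartOver_fst (i : Fin (1 + 1)) :
    chartOver A i ≫ pullback.fst _ _ =
      Spec.map (CommRingCat.ofHom (((Algebra.TensorProduct.includeLeft (S := P1.R0.{u}) :
        Polynomial P1.R0.{u} →ₐ[P1.R0.{u}] ChartOver A).toRingHom).comp (chartEquiv i).toRingHom)) ≫
      Proj.awayι P1.grading (P1.T i) (P1.X_mem i) one_pos := pullback.lift_fst _ _ _

theorem chartOver_toBase (i : Fin (1 + 1)) :
    chartOver A i ≫ CohB1.ProjSpaceOver.toBase 1 _ =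
      Spec.map (CommRingCat.ofHom ((Algebra.TensorProduct.includeRight :
        A →ₐ[P1.R0.{u}] ChartOver A)).toRingHom) := pullback.lift_snd _ _ _

theorem chartOver_isPullback (i : Fin (1 + 1)) :
    IsPullback (chartOver A i)
      (Spec.map (CommRingCat.ofHom (((Algebra.TensorProduct.includeLeft (S := P1.R0.{u}) :
        Polynomial P1.R0.{u} →ₐ[P1.R0.{u}] ChartOver A).toRingHom).comp (chartEquiv i).toRingHom)))
      (pullback.fst _ _) (Proj.awayι P1.grading (P1.T i) (P1.X_mem i) one_pos) := by
  have h1 := (isPullback_SpecMap_of_isPushout _ _ _ _ (CommRingCat.isPushout_tensorProduct P1.R0.{u}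
      (Polynomial P1.R0.{u}) A)).flip
  let e : Spec (CommRingCat.of (Polynomial P1.R0.{u})) ≅ Spec (CommRingCat.of (Chart i)) :=
    Scheme.Spec.mapIso (chartEquiv i).toCommRingCatIso.op
  refine IsPullback.of_right ?_ (chartOver_fst A i) (IsPullback.of_hasPullback _ _).flip
  refine h1.of_iso (Iso.refl _) (Iso.refl _) e (Iso.refl _) ?_ ?_ (specULiftZIsTerminal.hom_ext _ _)
    (specULiftZIsTerminal.hom_ext _ _)
  · simpa [CohB1.ProjSpaceOver.toBase] using (chartOver_toBase A i).symm
  · simp only [Iso.refl_hom, Category.id_comp, e, Functor.mapIso_hom, Iso.op_hom, Scheme.Spec_map]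
    rw [← Spec.map_comp]
    rfl

instance isOpenImmersion_chartOver (i : Fin (1 + 1)) : IsOpenImmersion (chartOver A i) :=
  MorphismProperty.of_isPullback (P := @IsOpenImmersion) (chartOver_isPullback A i).flip inferInstance

theorem exists_mem_chart (z : ↥(CohB1.ProjSpaceOver 1 (Spec (CommRingCat.of A)))) :
    ∃ i, z ∈ Set.range (chartOver A i) := by
  have hcov : ∀ y : ↥(CohB1.ProjSpace 1 P1.R0.{u}), ∃ i : Fin (1 + 1),
      y ∈ Set.range (Proj.awayι P1.grading (P1.T i) (P1.X_mem i) one_pos) := by
    intro y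
    obtain ⟨⟨i⟩, hi⟩ := Groth.Agent.CohFinite.cov_X 1 P1.R0.{u} y
    refine ⟨i, ?_⟩
    rw [← Scheme.Hom.coe_opensRange, Proj.opensRange_awayι]
    exact (ProjectiveSpectrum.mem_basicOpen _ _ y).mpr hi
  obtain ⟨i, w, hw⟩ := hcov (pullback.fst (CohB1.ProjSpace.toSpec 1 (ULift.{u} ℤ))
    (specULiftZIsTerminal.from (Spec (CommRingCat.of A))) z)
  obtain ⟨q, hq, -⟩ := Scheme.exists_preimage_of_isPullback (chartOver_isPullback A i) z w hw.symm
  exact ⟨i, q, hq⟩

/-- The ring of a chart over `A` is `A[t]`. -/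
def chartOverEquiv : ChartOver A ≃+* Polynomial A :=
  (Algebra.TensorProduct.comm P1.R0.{u} (Polynomial P1.R0.{u}) A).toRingEquiv.trans
    (polyEquivTensor P1.R0.{u} A).symm.toRingEquiv

theorem chartOver_isDomain [IsDomain A] : IsDomain (ChartOver A) :=
  (chartOverEquiv A).injective.isDomain (chartOverEquiv A).toRingHom

instance isReduced_over [IsDomain A] : IsReduced (CohB1.ProjSpaceOver 1 (Spec (CommRingCat.of A))) := by
  haveI := chartOver_isDomain A
  suffices h : ∀ z, _root_.IsReduced ((CohB1.ProjSpaceOver 1 (Spec (CommRingCat.of A))).presheaf.stalk z) from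
    isReduced_of_isReduced_stalk _
  intro z
  obtain ⟨i, w, rfl⟩ := exists_mem_chart A z
  exact isReduced_of_injective (asIso ((chartOver A i).stalkMap w)).commRingCatIsoToRingEquiv.toRingHom
    (asIso ((chartOver A i).stalkMap w)).commRingCatIsoToRingEquiv.injective

theorem nonempty_inter [IsDomain A] :
    (Set.range (chartOver A 0) ∩ Set.range (chartOver A 1)).Nonempty := by
  let g : Spec (CommRingCat.of A) ⟶ CohB1.ProjSpace 1 P1.R0.{u} :=
    Spec.map (CommRingCat.ofHom (P1.chartMap 0 A 1)) ≫ Proj.awayι P1.grading (P1.T 0) (P1.X_mem 0) one_pos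
  let z₀ : ↥(Spec (CommRingCat.of A)) := ⟨⊥, Ideal.isPrime_bot⟩
  let s : Spec (CommRingCat.of A) ⟶ CohB1.ProjSpaceOver 1 (Spec (CommRingCat.of A)) :=
    pullback.lift g (𝟙 _) (specULiftZIsTerminal.hom_ext _ _)
  have hs : pullback.fst (CohB1.ProjSpace.toSpec 1 (ULift.{u} ℤ))
      (specULiftZIsTerminal.from (Spec (CommRingCat.of A))) (s z₀) = g z₀ :=
    (Scheme.Hom.comp_apply _ _ _).symm.trans (congrArg (fun m => (m : Spec (CommRingCat.of A) ⟶ _) z₀) (pullback.lift_fst _ _ _))
  refine ⟨s z₀, ?_, ?_⟩
  · obtain ⟨q, hq, -⟩ := Scheme.exists_preimage_of_isPullback (chartOver_isPullback A 0) (s z₀)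
      (Spec.map (CommRingCat.ofHom (P1.chartMap 0 A 1)) z₀) hs
    exact ⟨q, hq⟩
  · have h1 : g z₀ ∈ Set.range (Proj.awayι P1.grading (P1.T.{u} 1) (P1.X_mem 1) one_pos) := by
      rw [← Scheme.Hom.coe_opensRange, Proj.opensRange_awayι]
      show (Spec.map (CommRingCat.ofHom (P1.chartMap 0 A 1))) z₀ ∈
        Proj.awayι P1.grading (P1.T 0) (P1.X_mem 0) one_pos ⁻¹ᵁ Proj.basicOpen P1.grading (P1.T 1)
      rw [Proj.awayι_preimage_basicOpen P1.grading (P1.X_mem 0) one_pos (P1.X_mem 1) one_pos]
      show P1.chartMap 0 A 1 (HomogeneousLocalization.Away.mk P1.grading (P1.X_mem 0) 1 (P1.T 1 ^ 1) _) ∉ (⊥ : Ideal A)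
      rw [chartMap_mk]
      simp
    obtain ⟨w, hw⟩ := h1
    obtain ⟨q, hq, -⟩ := Scheme.exists_preimage_of_isPullback (chartOver_isPullback A 1) (s z₀) w (hs.trans hw.symm)
    exact ⟨q, hq⟩

theorem isIntegral_over [IsDomain A] : IsIntegral (CohB1.ProjSpaceOver 1 (Spec (CommRingCat.of A))) := by
  haveI := chartOver_isDomain A
  haveI : IrreducibleSpace ↥(CohB1.ProjSpaceOver 1 (Spec (CommRingCat.of A))) := by
    have hr : ∀ i, IsPreirreducible (Set.range (chartOver A i)) ∧ IsOpen (Set.range (chartOver A i)) := fun i => by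
      refine ⟨?_, (chartOver A i).isOpenEmbedding.isOpen_range⟩
      rw [← Set.image_univ]
      exact (PreirreducibleSpace.isPreirreducible_univ).image _ (chartOver A i).continuous.continuousOn
    obtain ⟨y, hy0, hy1⟩ := nonempty_inter A
    haveI : Nonempty ↥(CohB1.ProjSpaceOver 1 (Spec (CommRingCat.of A))) := ⟨y⟩
    have hd : ∀ i O, IsOpen O → O.Nonempty → (O ∩ Set.range (chartOver A i)).Nonempty := by
      intro i O hO ⟨z, hz⟩
      obtain ⟨j, hj⟩ := exists_mem_chart A z
      have hy : (Set.range (chartOver A j) ∩ Set.range (chartOver A i)).Nonempty := by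
        fin_cases i <;> fin_cases j
        · exact ⟨y, hy0, hy0⟩
        · exact ⟨y, hy1, hy0⟩
        · exact ⟨y, hy0, hy1⟩
        · exact ⟨y, hy1, hy1⟩
      obtain ⟨w, -, hw1, hw2⟩ := (hr j).1 O (Set.range (chartOver A i)) hO (hr i).2 ⟨z, hj, hz⟩ hy
      exact ⟨w, hw1, hw2⟩
    haveI : PreirreducibleSpace ↥(CohB1.ProjSpaceOver 1 (Spec (CommRingCat.of A))) := ⟨fun O O' hO hO' h h' => by
      obtain ⟨a, ha, ha0⟩ := hd 0 O hO (by simpa using h)
      obtain ⟨b, hb, hb0⟩ := hd 0 O' hO' (by simpa using h')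
      obtain ⟨w, -, hw⟩ := (hr 0).1 O O' hO hO' ⟨a, ha0, ha⟩ ⟨b, hb0, hb⟩
      exact ⟨w, trivial, hw⟩⟩
    exact ⟨inferInstance⟩
  exact isIntegral_of_irreducibleSpace_of_isReduced _

theorem valuationRing_stalk {K : Type u} [Field K] [Algebra P1.R0.{u} K]
    (z : ↥(CohB1.ProjSpaceOver 1 (Spec (CommRingCat.of K)))) :
    ∃ _ : IsDomain ((CohB1.ProjSpaceOver 1 (Spec (CommRingCat.of K))).presheaf.stalk z),
      ValuationRing ((CohB1.ProjSpaceOver 1 (Spec (CommRingCat.of K))).presheaf.stalk z) := by
  obtain ⟨i, w, rfl⟩ := exists_mem_chart K z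
  haveI := chartOver_isDomain K
  haveI : IsPrincipalIdealRing (ChartOver K) :=
    IsPrincipalIdealRing.of_surjective (chartOverEquiv K).symm.toRingHom (chartOverEquiv K).symm.surjective
  obtain ⟨hdom, hval⟩ := domain_valuationRing_localization (w : PrimeSpectrum (ChartOver K)).asIdeal
    ↑((Spec.structureSheaf (ChartOver K)).presheaf.stalk w)
  let e : ↑((Spec.structureSheaf (ChartOver K)).presheaf.stalk w) ≃+*
      (CohB1.ProjSpaceOver 1 (Spec (CommRingCat.of K))).presheaf.stalk (chartOver K i w) :=
    (asIso ((chartOver K i).stalkMap w)).commRingCatIsoToRingEquiv.symm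
  haveI : IsDomain ((CohB1.ProjSpaceOver 1 (Spec (CommRingCat.of K))).presheaf.stalk (chartOver K i w)) :=
    e.symm.injective.isDomain e.symm.toRingHom
  exact ⟨inferInstance, Function.Surjective.valuationRing e.toRingHom e.surjective⟩

end Groth.Agent.REqP1
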